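import Groth.Agent.ProEtLib.SetsCI.Unit
import Mathlib.CategoryTheory.Adjunction.PartialAdjoint

/-! inverse images of pro-etale sheaves of sets along closed immersions have left adjoints -/

set_option autoImplicit false

universe u

open CategoryTheory CategoryTheory.Limits AlgebraicGeometry Opposite

noncomputable section

set_option backward.isDefEq.respectTransparency false
set_option backward.isDefEq.respectTransparency.types false

namespace Groth.Agent.ProEtLib.SetsCI

open CI

variable {Z X : Scheme.{u}} (i : Z ⟶ X)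

/-- the base objects -/
abbrev BObj : Type (u + 1) := {V : X.ProEt // IsBase i V}

/-- restrictions of the base objects -/
abbrev baseObj : BObj i → Z.ProEt := fun V => (ProEtS.bcP i).obj V.1

/-- the site of restrictions of base objects -/
abbrev baseIncl : InducedCategory Z.ProEt (baseObj i) ⥤ Z.ProEt := inducedFunctor (baseObj i)

variable [IsClosedImmersion i]

theorem isCoverDense_baseIncl : (baseIncl i).IsCoverDense (Scheme.ProEt.topology Z) := by
  refine ⟨fun U => GrothendieckTopology.superset_covering _ ?_ (isBase_covers i U)⟩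
  rintro W f ⟨W', a, g, ⟨V₀, hV, ⟨e⟩⟩, rfl⟩
  exact ⟨⟨⟨V₀, hV⟩, a ≫ e.hom, e.inv ≫ g, by simp⟩⟩

variable [ProEtS.PCont i]

/-- representing sheaves for sections on base objects -/
def corepresentableByBase (V : BObj i) :
    (pullS i ⋙ coyoneda.obj (op ((Scheme.ProEt.topology Z).uliftYoneda.{u + 1}.obj (baseObj i V)))).CorepresentableBy
      ((Scheme.ProEt.topology X).uliftYoneda.{u + 1}.obj V.1) where
  homEquiv {G} := (Scheme.ProEt.topology X).uliftYonedaEquiv.trans
    ((Equiv.ofBijective _ (bijective_uS i G V.2)).trans (Scheme.ProEt.topology Z).uliftYonedaEquiv.symm)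
  homEquiv_comp {G G'} φ f := by
    let JX := Scheme.ProEt.topology X
    let JZ := Scheme.ProEt.topology Z
    apply JZ.uliftYonedaEquiv.injective
    refine (Equiv.apply_symm_apply JZ.uliftYonedaEquiv _).trans ?_
    refine Eq.trans ?_ (GrothendieckTopology.uliftYonedaEquiv_comp JZ _ ((pullS i).map φ)).symm
    refine Eq.trans ?_ (congrArg _ (Equiv.apply_symm_apply JZ.uliftYonedaEquiv _).symm)
    exact (congrArg (uS i G' (V := V.1)) (GrothendieckTopology.uliftYonedaEquiv_comp JX f φ)).trans
      (ConcreteCategory.congr_hom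
        (congrArg (fun η => η.hom.app (op V.1)) ((adjS i).unit.naturality φ)) _)

theorem leftAdjointObjIsDefined_base (V : BObj i) :
    (pullS i).leftAdjointObjIsDefined ((Scheme.ProEt.topology Z).uliftYoneda.{u + 1}.obj (baseObj i V)) :=
  (corepresentableByBase i V).isCorepresentable

variable (H : Sheaf (Scheme.ProEt.topology Z) (Type (u + 1)))

/-- sections over base objects -/
abbrev El := ((baseIncl i).op ⋙ H.obj).Elements

/-- the diagram of representables -/
def elDiag : (El i H)ᵒᵖ ⥤ Sheaf (Scheme.ProEt.topology Z) (Type (u + 1)) :=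
  (CategoryOfElements.π ((baseIncl i).op ⋙ H.obj)).leftOp ⋙ baseIncl i ⋙
    (Scheme.ProEt.topology Z).uliftYoneda.{u + 1}

/-- the canonical cocone -/
def elCocone : Cocone (elDiag i H) where
  pt := H
  ι :=
    { app := fun e => (Scheme.ProEt.topology Z).uliftYonedaEquiv.symm e.unop.2
      naturality := fun e e' g => by
        refine (GrothendieckTopology.uliftYonedaEquiv_symm_naturality_left _ _ H _).trans ?_
        refine Eq.trans ?_ (Category.comp_id _).symm
        exact congrArg _ g.unop.2 }

/-- the natural family of a cocone -/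
def coconeFam (s : Cocone (elDiag i H)) : (baseIncl i).op ⋙ H.obj ⟶ (baseIncl i).op ⋙ s.pt.obj where
  app B := TypeCat.ofHom fun t =>
    (Scheme.ProEt.topology Z).uliftYonedaEquiv (s.ι.app (op (((baseIncl i).op ⋙ H.obj).elementsMk B t)))
  naturality B B' g := by
    ext t
    let F := (baseIncl i).op ⋙ H.obj
    let e : F.elementsMk B t ⟶ F.elementsMk B' (F.map g t) := CategoryOfElements.homMk _ _ g rfl
    refine Eq.trans ?_ (GrothendieckTopology.uliftYonedaEquiv_naturality (Scheme.ProEt.topology Z)
      (s.ι.app (op (F.elementsMk B t))) ((baseIncl i).map g.unop)).symm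
    exact congrArg (Scheme.ProEt.topology Z).uliftYonedaEquiv (s.w e.op).symm

theorem nonempty_isColimit_elCocone : Nonempty (IsColimit (elCocone i H)) := by
  haveI := isCoverDense_baseIncl i
  let J := Scheme.ProEt.topology Z
  let α : ∀ s : Cocone (elDiag i H), (baseIncl i).op ⋙ H.obj ⟶ (baseIncl i).op ⋙ s.pt.obj := coconeFam i H
  refine ⟨{ desc := fun s => ⟨Functor.IsCoverDense.restrictHomEquivHom (α s)⟩, fac := fun s e => ?_, uniq := fun s m hm => ?_ }⟩
  · apply J.uliftYonedaEquiv.injective
    rw [GrothendieckTopology.uliftYonedaEquiv_comp]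
    have h := NatTrans.congr_app (Functor.IsCoverDense.sheafHom_restrict_eq (α s)) e.unop.1
    refine Eq.trans ?_ (ConcreteCategory.congr_hom h e.unop.2)
    exact congrArg _ (Equiv.apply_symm_apply _ _)
  · refine Sheaf.hom_ext ?_
    refine ((Functor.IsCoverDense.sheafHom_eq (baseIncl i) m.hom).symm.trans ?_)
    refine congrArg Functor.IsCoverDense.sheafHom (NatTrans.ext (funext fun B => ?_))
    ext t
    refine Eq.trans ?_ (congrArg J.uliftYonedaEquiv (hm (op (((baseIncl i).op ⋙ H.obj).elementsMk B t))))
    rw [GrothendieckTopology.uliftYonedaEquiv_comp]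
    exact congrArg _ (Equiv.apply_symm_apply _ _).symm

theorem isRightAdjoint_pullS : (pullS i).IsRightAdjoint := by
  rw [Functor.isRightAdjoint_iff_leftAdjointObjIsDefined_eq_top]
  refine eq_top_iff.2 fun H _ => ?_
  haveI : HasColimitsOfSize.{u + 1, u + 1} (Sheaf (Scheme.ProEt.topology X) (Type (u + 1))) := inferInstance
  haveI : HasColimitsOfSize.{u, u + 1} (Sheaf (Scheme.ProEt.topology X) (Type (u + 1))) :=
    hasColimitsOfSizeShrink.{u, u + 1, u + 1, u + 1} _
  haveI : HasColimitsOfShape (El i H)ᵒᵖ (Sheaf (Scheme.ProEt.topology X) (Type (u + 1))) := inferInstance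
  exact Functor.leftAdjointObjIsDefined_of_isColimit (nonempty_isColimit_elCocone i H).some
    fun e => leftAdjointObjIsDefined_base i e.unop.1.unop

end Groth.Agent.ProEtLib.SetsCI
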