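import Groth.Agent.ProEtLib.ClosedImmLimits

/-! inverse images of pro-etale sheaves of sets along closed immersions, on base objects -/

set_option autoImplicit false

universe u

open CategoryTheory CategoryTheory.Limits AlgebraicGeometry Opposite

noncomputable section

set_option backward.isDefEq.respectTransparency false
set_option backward.isDefEq.respectTransparency.types false

namespace Groth.Agent.ProEtLib.SetsCI

open CI

variable {Y : Scheme.{u}}

theorem subsingleton_empty (G : Sheaf (Scheme.ProEt.topology Y) (Type (u + 1))) (W : Y.ProEt) (hW : IsEmpty W.left) :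
    Subsingleton (G.obj.obj (op W)) :=
  ⟨fun _ _ => ((isSheaf_iff_isSheaf_of_type _ _).1 G.2 _
    (Scheme.ProEt.bot_mem_topology W)).isSeparatedFor.ext (fun _ _ h => h.elim)⟩

theorem glue_set (G : Sheaf (Scheme.ProEt.topology Y) (Type (u + 1))) {P : Y.ProEt} {n : ℕ} (V : Fin n → Y.ProEt)
    (j : ∀ k, V k ⟶ P) [∀ k, IsOpenImmersion (j k).left]
    (hd : Pairwise fun k l => Disjoint (Set.range (j k).left.base) (Set.range (j l).left.base))
    (hc : ∀ x, ∃ k, x ∈ Set.range (j k).left.base) (t : ∀ k, G.obj.obj (op (V k))) :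
    ∃! s, ∀ k, G.obj.map (j k).op s = t k :=
  existsUnique_glue G.obj ((isSheaf_iff_isSheaf_of_type _ _).1 G.2)
    (fun W hW => subsingleton_empty G W hW) P V j hd hc t

variable {Z X : Scheme.{u}} (i : Z ⟶ X)

theorem exists_of_lan_eq (C : X.ProEtᵒᵖ ⥤ Type (u + 1)) {W : Z.ProEt} {V : X.ProEt}
    (b : W ⟶ (ProEtS.bcP i).obj V) (s t : C.obj (op V))
    (h : ((ProEtS.bcP i).op.leftKanExtension C).map b.op (((ProEtS.bcP i).op.leftKanExtensionUnit C).app (op V) s) =
      ((ProEtS.bcP i).op.leftKanExtension C).map b.op (((ProEtS.bcP i).op.leftKanExtensionUnit C).app (op V) t)) :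
    ∃ (V' : X.ProEt) (b' : W ⟶ (ProEtS.bcP i).obj V') (c : V' ⟶ V),
      b' ≫ (ProEtS.bcP i).map c = b ∧ C.map c.op s = C.map c.op t := by
  have : RepresentablyFlat (ProEtS.bcP i) := flat_of_preservesFiniteLimits _
  let g : CostructuredArrow (ProEtS.bcP i).op (op W) := CostructuredArrow.mk b.op
  let hc := (ProEtS.bcP i).op.isPointwiseLeftKanExtensionLeftKanExtensionUnit C (op W)
  obtain ⟨k, p, q, hpq⟩ := (Types.FilteredColimit.isColimit_eq_iff _ hc (i := g) (j := g) (xi := s) (xj := t)).1 h
  have : IsFiltered (CostructuredArrow (ProEtS.bcP i).op (op W)) := inferInstance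
  let r := IsFiltered.coeqHom p q
  refine ⟨(IsFiltered.coeq p q).left.unop, (IsFiltered.coeq p q).hom.unop, (p ≫ r).left.unop,
    congrArg Quiver.Hom.unop (CostructuredArrow.w (p ≫ r)), ?_⟩
  have h2 : q ≫ r = p ≫ r := (IsFiltered.coeq_condition p q).symm
  have h3 : ∀ z, (CostructuredArrow.proj (ProEtS.bcP i).op (op W) ⋙ C).map (p ≫ r) z =
      (CostructuredArrow.proj (ProEtS.bcP i).op (op W) ⋙ C).map r
        ((CostructuredArrow.proj (ProEtS.bcP i).op (op W) ⋙ C).map p z) := fun z =>
    ConcreteCategory.congr_hom ((CostructuredArrow.proj (ProEtS.bcP i).op (op W) ⋙ C).map_comp p r) z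
  have h4 : ∀ z, (CostructuredArrow.proj (ProEtS.bcP i).op (op W) ⋙ C).map (q ≫ r) z =
      (CostructuredArrow.proj (ProEtS.bcP i).op (op W) ⋙ C).map r
        ((CostructuredArrow.proj (ProEtS.bcP i).op (op W) ⋙ C).map q z) := fun z =>
    ConcreteCategory.congr_hom ((CostructuredArrow.proj (ProEtS.bcP i).op (op W) ⋙ C).map_comp q r) z
  have h5 := (h3 s).trans ((congrArg _ hpq).trans (h4 t).symm)
  rw [h2] at h5
  exact h5

variable [ProEtS.PCont i] (C : Sheaf (Scheme.ProEt.topology X) (Type (u + 1)))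

/-- inverse image of sheaves of sets -/
abbrev pullS : Sheaf (Scheme.ProEt.topology X) (Type (u + 1)) ⥤ Sheaf (Scheme.ProEt.topology Z) (Type (u + 1)) :=
  (ProEtS.bcP i).sheafPullback (Type (u + 1)) (Scheme.ProEt.topology X) (Scheme.ProEt.topology Z)

/-- the adjunction for sheaves of sets -/
abbrev adjS : pullS i ⊣ (ProEtS.bcP i).sheafPushforwardContinuous (Type (u + 1)) (Scheme.ProEt.topology X)
    (Scheme.ProEt.topology Z) :=
  (ProEtS.bcP i).sheafAdjunctionContinuous (Type (u + 1)) (Scheme.ProEt.topology X) (Scheme.ProEt.topology Z)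

/-- the canonical map from sections over `V` to sections of the inverse image -/
abbrev uS {V : X.ProEt} (x : C.obj.obj (op V)) :
    ((pullS i).obj C).obj.obj (op ((ProEtS.bcP i).obj V)) :=
  ((adjS i).unit.app C).hom.app (op V) x

theorem uS_map {V V' : X.ProEt} (c : V' ⟶ V) (x : C.obj.obj (op V)) :
    ((pullS i).obj C).obj.map ((ProEtS.bcP i).map c).op (uS i C x) = uS i C (C.obj.map c.op x) :=
  (NatTrans.naturality_apply ((adjS i).unit.app C).hom c.op x).symm

/-- comparison of the inverse image with the sheafified left Kan extension -/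
abbrev pullSIso : ((pullS i).obj C).obj ≅
    sheafify (Scheme.ProEt.topology Z) ((ProEtS.bcP i).op.leftKanExtension C.obj) :=
  (sheafToPresheaf _ _).mapIso ((Functor.sheafPullbackConstruction.sheafPullbackIso (ProEtS.bcP i)
    (Type (u + 1)) (Scheme.ProEt.topology X) (Scheme.ProEt.topology Z)).app C)

theorem pullSIso_uS {V : X.ProEt} (x : C.obj.obj (op V)) :
    (pullSIso i C).hom.app (op ((ProEtS.bcP i).obj V)) (uS i C x) =
      (toSheafify (Scheme.ProEt.topology Z) ((ProEtS.bcP i).op.leftKanExtension C.obj)).app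
        (op ((ProEtS.bcP i).obj V))
        (((ProEtS.bcP i).op.leftKanExtensionUnit C.obj).app (op V) x) := by
  have h := Adjunction.unit_leftAdjointUniq_hom_app
    ((ProEtS.bcP i).sheafAdjunctionContinuous (Type (u + 1)) (Scheme.ProEt.topology X) (Scheme.ProEt.topology Z))
    (Functor.sheafPullbackConstruction.sheafAdjunctionContinuous (ProEtS.bcP i) (Type (u + 1))
      (Scheme.ProEt.topology X) (Scheme.ProEt.topology Z)) C
  have h' := congrArg (fun φ => φ.hom.app (op V) x) h
  refine h'.trans ?_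
  simp [Functor.sheafPullbackConstruction.sheafAdjunctionContinuous, Adjunction.map_restrictFullyFaithful_unit_app]
  rfl

/-- every section of the inverse image comes locally from sections upstairs -/
theorem exists_uS {T : Z.ProEt} (s : ((pullS i).obj C).obj.obj (op T)) :
    ∃ R ∈ Scheme.ProEt.topology Z T, ∀ ⦃W⦄ (f : W ⟶ T), R.arrows f →
      ∃ (V : X.ProEt) (b : W ⟶ (ProEtS.bcP i).obj V) (x : C.obj.obj (op V)),
        ((pullS i).obj C).obj.map b.op (uS i C x) = ((pullS i).obj C).obj.map f.op s := by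
  let L := (ProEtS.bcP i).op.leftKanExtension C.obj
  let φ := toSheafify (Scheme.ProEt.topology Z) L
  let e := pullSIso i C
  refine ⟨Presheaf.imageSieve φ (e.hom.app (op T) s),
    Presheaf.imageSieve_mem (Scheme.ProEt.topology Z) φ _, fun W f ⟨t, ht⟩ => ?_⟩
  obtain ⟨g, x, rfl⟩ := Types.jointly_surjective (CostructuredArrow.proj (ProEtS.bcP i).op (op W) ⋙ C.obj)
    ((ProEtS.bcP i).op.isPointwiseLeftKanExtensionLeftKanExtensionUnit C.obj (op W)) t
  refine ⟨g.left.unop, g.hom.unop, x,
    (ConcreteCategory.bijective_of_isIso (e.hom.app (op W))).1 ?_⟩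
  rw [NatTrans.naturality_apply e.hom, NatTrans.naturality_apply e.hom, pullSIso_uS]
  refine Eq.trans ?_ ht
  exact (NatTrans.naturality_apply φ g.hom _).symm

theorem uS_eq {V : X.ProEt} (x x' : C.obj.obj (op V)) (h : uS i C x = uS i C x') :
    (Presheaf.equalizerSieve (F := C.obj) (X := op V) x x').functorPushforward (ProEtS.bcP i) ∈
      Scheme.ProEt.topology Z ((ProEtS.bcP i).obj V) := by
  let L := (ProEtS.bcP i).op.leftKanExtension C.obj
  let η := ((ProEtS.bcP i).op.leftKanExtensionUnit C.obj).app (op V)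
  refine GrothendieckTopology.superset_covering _ ?_
    (Presheaf.equalizerSieve_mem (Scheme.ProEt.topology Z) (toSheafify (Scheme.ProEt.topology Z) L)
      (X := op ((ProEtS.bcP i).obj V)) (η x) (η x') ?_)
  · intro T f hf
    obtain ⟨V', b', c, hb, hc⟩ := exists_of_lan_eq i C.obj f x x' hf
    exact ⟨V', c, b', hc, hb.symm⟩
  · rw [← pullSIso_uS, ← pullSIso_uS, h]

theorem bijective_uS [IsClosedImmersion i] {V₀ : X.ProEt} (hV : IsBase i V₀) :
    Function.Bijective (uS i C (V := V₀)) := by
  obtain ⟨haff, hW, hspec, hlift⟩ := hV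
  let W := (ProEtS.bcP i).obj V₀
  let G := (pullS i).obj C
  have hopen : ∀ {n : ℕ} (O : Fin n → W.left.Opens) (k : Fin n), IsOpenImmersion (opHom W (O k)).left :=
    fun O k => inferInstanceAs (IsOpenImmersion (O k).ι)
  constructor
  · intro x x' hx
    obtain ⟨n, O, -, hd, hcov, hO⟩ := hW _ (uS_eq i C x x' hx)
    have hc : ∀ w, ∃ k, w ∈ O k := fun w => Set.mem_iUnion.1 (hcov.symm ▸ Set.mem_univ w)
    choose V c b hcx hb using hO
    obtain ⟨S, j, hj, hdj, hcj⟩ := exists_sigma V
    haveI := hj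
    obtain ⟨m, hm, -⟩ := existsUnique_glue (yoneda.obj V₀)
      (GrothendieckTopology.Subcanonical.isSheaf_of_isRepresentable _)
      (fun _ hZ => ⟨fun p q => MorphismProperty.Over.Hom.ext (isInitialOfIsEmpty.hom_ext _ _)⟩) S V j hdj hcj c
    obtain ⟨β, hβ, -⟩ := glue_hom W O hd hc _ fun k => b k ≫ (ProEtS.bcP i).map (j k)
    have hβm : β ≫ (ProEtS.bcP i).map m = 𝟙 W := by
      refine (glue_hom W O hd hc W fun k => opHom W (O k)).unique (fun k => ?_) fun k => Category.comp_id _
      rw [← Category.assoc, hβ k, Category.assoc, ← Functor.map_comp, show j k ≫ m = c k from hm k]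
      exact (hb k).symm
    have hx0 : C.obj.map m.op x = C.obj.map m.op x' := by
      refine (glue_set C V j hdj hcj fun k => C.obj.map (c k).op x').unique (fun k => ?_) fun k => ?_
      · rw [← ConcreteCategory.comp_apply, ← Functor.map_comp, ← op_comp, show j k ≫ m = c k from hm k]
        exact hcx k
      · rw [← ConcreteCategory.comp_apply, ← Functor.map_comp, ← op_comp, show j k ≫ m = c k from hm k]
    obtain ⟨g, hg⟩ := hlift S β
    have hgm : g ≫ m = 𝟙 V₀ := endo_eq_id i V₀ hspec _ (by rw [Functor.map_comp, hg, hβm])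
    have := congrArg (C.obj.map g.op) hx0
    rw [← ConcreteCategory.comp_apply, ← ConcreteCategory.comp_apply, ← Functor.map_comp, ← op_comp, hgm] at this
    simpa using this
  · intro s
    obtain ⟨R, hR, hRs⟩ := exists_uS i C s
    obtain ⟨n, O, -, hd, hcov, hO⟩ := hW R hR
    have hc : ∀ w, ∃ k, w ∈ O k := fun w => Set.mem_iUnion.1 (hcov.symm ▸ Set.mem_univ w)
    choose V b x hx using fun k => hRs _ (hO k)
    obtain ⟨S, j, hj, hdj, hcj⟩ := exists_sigma V
    haveI := hj
    obtain ⟨y, hy, -⟩ := glue_set C V j hdj hcj x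
    obtain ⟨β, hβ, -⟩ := glue_hom W O hd hc _ fun k => b k ≫ (ProEtS.bcP i).map (j k)
    obtain ⟨g, hg⟩ := hlift S β
    refine ⟨C.obj.map g.op y, ?_⟩
    haveI := hopen O
    refine (glue_set G (fun k => opObj W (O k)) (fun k => opHom W (O k))
      (fun k l hkl => by
        show Disjoint (Set.range (O k).ι.base) (Set.range (O l).ι.base)
        rw [Scheme.Opens.range_ι, Scheme.Opens.range_ι]
        exact hd hkl)
      (fun w => (hc w).imp fun k hk => ⟨⟨w, hk⟩, rfl⟩) fun k => G.obj.map (opHom W (O k)).op s).unique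
      (fun k => ?_) fun k => rfl
    show G.obj.map (opHom W (O k)).op (uS i C (C.obj.map g.op y)) = _
    rw [← uS_map, hg, ← ConcreteCategory.comp_apply, ← Functor.map_comp, ← op_comp, hβ k, op_comp,
      Functor.map_comp, ConcreteCategory.comp_apply, uS_map, hy k, hx k]

end Groth.Agent.ProEtLib.SetsCI
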